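import Cfsg.Agent.Lib.Helper7.GlS3.Defs
import Cfsg.Agent.S0663
import Cfsg.Agent.Lib.Helper22.SupLemmas

set_option autoImplicit false

namespace Cfsg.Agent.Lib.Helper20.GlS3

open Subgroup Cfsg.Agent.Lib.Helper7.GlS3 Cfsg.Agent.Lib.Helper48
open scoped commutatorElement

/-- `A` normalises `[V, A]` when it normalises `V`. -/
theorem QB_le_normalizer_commutator {G : Type*} [Group G] (V A : Subgroup G)
    (hAV : A ≤ normalizer (V : Set G)) : A ≤ normalizer ((⁅V, A⁆ : Subgroup G) : Set G) := by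
  have key : ∀ a ∈ A, ∀ x ∈ ⁅V, A⁆, a * x * a⁻¹ ∈ ⁅V, A⁆ := by
    intro a ha x hx
    have h1 : ⁅V, A⁆ ≤ (⁅V, A⁆ : Subgroup G).comap (MulAut.conj a).toMonoidHom := by
      rw [commutator_le]
      intro v hv b hb
      rw [mem_comap]
      show a * ⁅v, b⁆ * a⁻¹ ∈ _
      have e : a * ⁅v, b⁆ * a⁻¹ = ⁅a * v * a⁻¹, a * b * a⁻¹⁆ := by
        simp only [commutatorElement_def]
        group
      rw [e]
      exact commutator_mem_commutator ((mem_normalizer_iff.mp (hAV ha) v).mp hv)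
        (A.mul_mem (A.mul_mem ha hb) (A.inv_mem ha))
    exact h1 hx
  intro a ha
  rw [mem_normalizer_iff]
  intro x
  refine ⟨key a ha x, fun hx => ?_⟩
  have := key a⁻¹ (A.inv_mem ha) _ hx
  simpa [mul_assoc] using this

/-- QB. -/
theorem le_centralizer_of_eq {G : Type*} [Group G] [Finite G] (V A : Subgroup G)
    (hV : Cfsg.IsElementaryAbelian 2 V) (hAV : A ≤ normalizer (V : Set G)) (hA2 : IsPGroup 2 A)
    (h : V = ⁅V, A⁆ ⊔ (V ⊓ centralizer (A : Set G))) : A ≤ centralizer (V : Set G) := by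
  haveI : Fact (Nat.Prime 2) := ⟨Nat.prime_two⟩
  have hcomm : ∀ x ∈ V, ∀ y ∈ V, x * y = y * x := by
    intro x hx y hy
    exact congrArg Subtype.val (hV.1.is_comm.comm ⟨x, hx⟩ ⟨y, hy⟩)
  have hUV : ⁅V, A⁆ ≤ V := le_normalizer_iff_commutator_le_left.mp hAV
  have hV2 : IsPGroup 2 V := by
    intro x
    refine ⟨1, ?_⟩
    apply Subtype.ext
    rw [pow_one]
    exact hV.2 x x.2
  have hU2 : IsPGroup 2 (⁅V, A⁆ : Subgroup G) := hV2.to_le hUV
  have hAU := QB_le_normalizer_commutator V A hAV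
  have hle : ⁅V, A⁆ ≤ ⁅⁅V, A⁆, A⁆ := by
    rw [commutator_le]
    intro v hv a ha
    rw [h] at hv
    have hn : V ⊓ centralizer (A : Set G) ≤ normalizer ((⁅V, A⁆ : Subgroup G) : Set G) := by
      intro c hc
      rw [mem_normalizer_iff]
      intro x
      constructor
      · intro hx
        have : c * x * c⁻¹ = x := by
          rw [hcomm c (mem_inf.mp hc).1 x (hUV hx)]
          group
        rwa [this]
      · intro hx
        have hx' : x ∈ V := by
          have h1 := V.mul_mem (V.mul_mem (V.inv_mem (mem_inf.mp hc).1) (hUV hx)) (mem_inf.mp hc).1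
          simpa [mul_assoc] using h1
        have : c * x * c⁻¹ = x := by
          rw [hcomm c (mem_inf.mp hc).1 x hx']
          group
        rwa [this] at hx
    obtain ⟨u, hu, c, hc, rfl⟩ := (Cfsg.Agent.Lib.Helper22.mem_sup_of_le_normalizer hn).mp hv
    have hca : a * c = c * a := mem_centralizer_iff.mp (mem_inf.mp hc).2 a ha
    have hcu : ∀ y ∈ V, c * y = y * c := fun y hy => hcomm c (mem_inf.mp hc).1 y hy
    have e : ⁅u * c, a⁆ = ⁅u, a⁆ := by
      have h1 : a * (u * c)⁻¹ * a⁻¹ = (a * u⁻¹ * a⁻¹) * c⁻¹ := by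
        have h2 : a * c⁻¹ = c⁻¹ * a := by
          have : c⁻¹ * (a * c) * c⁻¹ = c⁻¹ * (c * a) * c⁻¹ := by rw [hca]
          rw [show c⁻¹ * (a * c) * c⁻¹ = c⁻¹ * a by group,
            show c⁻¹ * (c * a) * c⁻¹ = a * c⁻¹ by group] at this
          exact this.symm
        have h3 : (a * u⁻¹ * a⁻¹) ∈ V :=
          (mem_normalizer_iff.mp (hAV ha) _).mp (V.inv_mem (hUV hu))
        calc a * (u * c)⁻¹ * a⁻¹ = (a * c⁻¹) * u⁻¹ * a⁻¹ := by group
          _ = c⁻¹ * (a * u⁻¹ * a⁻¹) := by rw [h2]; group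
          _ = (a * u⁻¹ * a⁻¹) * c⁻¹ :=
            hcomm _ (V.inv_mem (mem_inf.mp hc).1) _ h3
      have h3 : (a * u⁻¹ * a⁻¹) ∈ V :=
        (mem_normalizer_iff.mp (hAV ha) _).mp (V.inv_mem (hUV hu))
      calc ⁅u * c, a⁆ = u * c * (a * (u * c)⁻¹ * a⁻¹) := by
            rw [commutatorElement_def]; group
        _ = u * (c * (a * u⁻¹ * a⁻¹)) * c⁻¹ := by rw [h1]; group
        _ = u * ((a * u⁻¹ * a⁻¹) * c) * c⁻¹ := by rw [hcu _ h3]
        _ = ⁅u, a⁆ := by rw [commutatorElement_def]; group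
    rw [e]
    exact commutator_mem_commutator hu ha
  have hbot : ⁅V, A⁆ = ⊥ := by
    by_contra hne
    exact absurd hle (not_le_of_gt (Cfsg.Agent.S0663.commutator_lt hU2 hA2 hAU hne))
  rw [le_centralizer_iff]
  exact commutator_eq_bot_iff_le_centralizer.mp hbot

end Cfsg.Agent.Lib.Helper20.GlS3
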